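import Groth.Agent.LefConn.Punctured
import Groth.Agent.LocCohTransform.Connectedness
import Groth.Prelude.Def_FEt

/-!
Connectedness of punctured spectra of quotients of complete local rings by few equations.
-/

set_option autoImplicit false
universe u

open TopologicalSpace Set IsLocalRing

namespace Groth.LefConn

theorem isLocalPt_closedPoint (R : Type u) [CommRing R] [IsLocalRing R] :
    IsLocalPt (closedPoint R) :=
  ⟨isClosed_singleton_closedPoint (R := R), fun x =>
    (PrimeSpectrum.le_iff_specializes x (closedPoint R)).1 (le_maximalIdeal x.2.ne_top)⟩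

theorem le_of_add_bound {a b : WithBot ℕ∞} {k m : ℕ} (hk : ((k : ℕ) : WithBot ℕ∞) ≤ b)
    (hb : b ≤ a + (m : WithBot ℕ∞)) : ((k - m : ℕ) : WithBot ℕ∞) ≤ a := by
  have h := hk.trans hb
  clear hk hb
  induction a using cases_withBotENat with
  | hb => rw [WithBot.bot_add] at h; exact absurd h (WithBot.not_coe_le_bot _)
  | ht => exact le_top
  | hn n => norm_cast at h ⊢; omega

theorem natCast_succ_le_of_lt {a : WithBot ℕ∞} {k : ℕ} (h : ((k : ℕ) : WithBot ℕ∞) < a) :
    ((k + 1 : ℕ) : WithBot ℕ∞) ≤ a := by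
  induction a using cases_withBotENat with
  | hb => exact absurd h not_lt_bot
  | ht => exact le_top
  | hn n => norm_cast at h ⊢

theorem main (A : Type u) [CommRing A] [IsNoetherianRing A] [IsLocalRing A]
    [IsAdicComplete (maximalIdeal A) A] (k : ℕ) (hk : 1 ≤ k)
    (ha : ∀ Z ∈ irreducibleComponents ↥(FEt.puncturedSpec A),
      ((k + 1 : ℕ) : WithBot ℕ∞) ≤ topologicalKrullDim ↥Z)
    (hb : LefX.ConnectedInDim ↥(FEt.puncturedSpec A) k) (m : ℕ) (hm : m ≤ k) (f : Fin m → A)
    (hf : ∀ i, f i ∈ maximalIdeal A) [IsLocalRing (A ⧸ Ideal.span (Set.range f))] :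
    (∀ Z ∈ irreducibleComponents ↥(FEt.puncturedSpec (A ⧸ Ideal.span (Set.range f))),
      ((k - m + 1 : ℕ) : WithBot ℕ∞) ≤ topologicalKrullDim ↥Z) ∧
      LefX.ConnectedInDim ↥(FEt.puncturedSpec (A ⧸ Ideal.span (Set.range f))) (k - m) := by
  classical
  set a := Ideal.span (Set.range f)
  have hane : a ≠ ⊤ := ne_top_of_le_ne_top (maximalIdeal.isMaximal A).ne_top
    (Ideal.span_le.2 (Set.range_subset_iff.2 hf))
  set s : Finset A := Finset.univ.image f
  have hs : (Ideal.span (s : Set A)).radical = a.radical := by simp [s, a]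
  have hcard : s.card ≤ m := Finset.card_image_le.trans (by simp)
  set B := A ⧸ a
  have hoA := isLocalPt_closedPoint A
  have hoB := isLocalPt_closedPoint B
  have hne : Nonempty ↥({closedPoint A}ᶜ : Set (PrimeSpectrum A)) := by
    have h0 : topologicalKrullDim ↥(∅ : Set ↥(FEt.puncturedSpec A)) < (k : WithBot ℕ∞) := by
      haveI : IsEmpty ↥(∅ : Set ↥(FEt.puncturedSpec A)) := ⟨fun x => x.2⟩
      haveI : IsEmpty (IrreducibleCloseds ↥(∅ : Set ↥(FEt.puncturedSpec A))) :=
        ⟨fun C => IsEmpty.false C.isIrreducible.1.some⟩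
      rw [show topologicalKrullDim ↥(∅ : Set ↥(FEt.puncturedSpec A)) = ⊥ from Order.krullDim_eq_bot]
      exact WithBot.bot_lt_coe _
    exact ⟨(hb ∅ isClosed_empty h0).1.some⟩
  have hc : ((k + 1 : ℕ) : WithBot ℕ∞) ≤ LocCoh.connDim (PrimeSpectrum A) := hoA.le_connDim hb
  have hsd : ((k + 1 + 1 : ℕ) : WithBot ℕ∞) ≤ LocCoh.subdim (PrimeSpectrum A) := hoA.le_subdim hne ha
  have hmin : ((k + 1 + 1 : ℕ) : WithBot ℕ∞) ≤
      min (LocCoh.connDim (PrimeSpectrum A) + 1) (LocCoh.subdim (PrimeSpectrum A)) := by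
    refine le_min ?_ hsd
    rw [Nat.cast_add _ 1, Nat.cast_one]
    exact add_le_add_left hc 1
  have hcard' : ((s.card : ℕ) : WithBot ℕ∞) ≤ (m : WithBot ℕ∞) := by exact_mod_cast hcard
  have h1 := Groth.LocCohTransform.Connectedness.min_le_connDim_quotient_add a hane s hs
  have hcB : ((k - m + 1 : ℕ) : WithBot ℕ∞) ≤ LocCoh.connDim (PrimeSpectrum B) := by
    refine le_trans (le_of_eq (congrArg (fun j : ℕ => (j : WithBot ℕ∞)) (show k - m + 1 = k + 1 + 1 - (m + 1) by omega)))
      (le_of_add_bound hmin (h1.trans ?_))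
    rw [Nat.cast_add, Nat.cast_one, ← add_assoc]
    exact add_le_add_left (add_le_add_right hcard' _) 1
  refine ⟨fun Z hZ => hoB.le_dim_component ?_ hZ, hoB.connectedInDim hcB⟩
  refine le_iInf₂ fun C hC => ?_
  by_cases hrest : (irreducibleComponents (PrimeSpectrum B) \ {C}).Nonempty
  · have hCc := isClosed_of_mem_irreducibleComponents C hC
    have hDc : IsClosed (⋃₀ (irreducibleComponents (PrimeSpectrum B) \ {C})) :=
      Groth.LocCohTransform.isClosed_sUnion_of_subset Set.sdiff_subset
    have hle := hcB.trans (Groth.LocCohTransform.connDim_le_of_partition (Set.singleton_subset_iff.2 hC)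
      Set.sdiff_subset (Set.singleton_nonempty C) hrest
      (by rw [Set.union_sdiff_self, Set.union_eq_right.2 (Set.singleton_subset_iff.2 hC)])
      Set.disjoint_sdiff_right)
    rw [Set.sUnion_singleton] at hle
    have hfin : topologicalKrullDim ↥C < ⊤ := by
      refine lt_of_le_of_lt (topologicalKrullDim_subspace_le (PrimeSpectrum B) C) ?_
      rw [PrimeSpectrum.topologicalKrullDim_eq_ringKrullDim]
      exact ringKrullDim_lt_top
    have hnle : ¬ C ⊆ C ∩ ⋃₀ (irreducibleComponents (PrimeSpectrum B) \ {C}) := fun h => by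
      have := mem_of_subset_sUnion_irreducibleComponents C hC (irreducibleComponents (PrimeSpectrum B) \ {C})
        (NoetherianSpace.finite_irreducibleComponents.subset Set.sdiff_subset) Set.sdiff_subset
        (fun x hx => (h hx).2)
      exact this.2 rfl
    have hlt := lt_of_le_of_lt hle (Groth.LocCohTransform.topologicalKrullDim_lt_of_ssubset
      Set.inter_subset_left hnle (hCc.inter hDc) hCc hC.1 hfin)
    exact natCast_succ_le_of_lt hlt
  · rw [Set.not_nonempty_iff_eq_empty, Set.sdiff_eq_empty] at hrest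
    have hu : C = Set.univ := by
      rw [← Set.sUnion_singleton C, ← sUnion_irreducibleComponents (X := PrimeSpectrum B)]
      exact congrArg Set.sUnion (Set.Subset.antisymm (Set.singleton_subset_iff.2 hC) hrest)
    have h2 := Groth.LocCohTransform.Connectedness.subdim_le_dim_add a hane s hs
    have h3 := le_of_add_bound hsd (h2.trans (add_le_add_right hcard' _))
    rw [hu, IsHomeomorph.topologicalKrullDim_eq (Homeomorph.Set.univ (PrimeSpectrum B))
      (Homeomorph.Set.univ (PrimeSpectrum B)).isHomeomorph, PrimeSpectrum.topologicalKrullDim_eq_ringKrullDim]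
    exact le_trans (le_of_eq (congrArg (fun j : ℕ => (j : WithBot ℕ∞)) (show k - m + 1 + 1 = k + 1 + 1 - m by omega))) h3

end Groth.LefConn
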