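import Groth.Prelude.Def_LefX
import Groth.Agent.LocCohTransform.ConnDim

/-!
Removing the closed point of a local space: dimension, connectedness dimension, components.
-/

set_option autoImplicit false
universe u

open TopologicalSpace Set

namespace Groth.LefConn

/-- The point `o` is closed and every point specialises to it. -/
structure IsLocalPt {T : Type u} [TopologicalSpace T] (o : T) : Prop where
  isClosed : IsClosed ({o} : Set T)
  specializes : ∀ x : T, x ⤳ o

variable {T : Type u} [TopologicalSpace T] {o : T}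

theorem IsLocalPt.mem (ho : IsLocalPt o) {C : Set T} (hC : IsClosed C) (h : C.Nonempty) : o ∈ C :=
  (ho.specializes h.some).mem_closed hC h.some_mem

theorem IsLocalPt.isOpenEmbedding (ho : IsLocalPt o) :
    Topology.IsOpenEmbedding (Subtype.val : ↥({o}ᶜ : Set T) → T) :=
  ho.isClosed.isOpen_compl.isOpenEmbedding_subtypeVal

theorem IsLocalPt.preimage_closure_image (ho : IsLocalPt o) {W : Set ↥({o}ᶜ : Set T)} (hW : IsClosed W) :
    Subtype.val ⁻¹' closure (Subtype.val '' W) = W := by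
  rw [← ho.isOpenEmbedding.isInducing.closure_eq_preimage_closure_image, hW.closure_eq]

theorem IsLocalPt.nonempty_compl_inter {C : Set T} (hC : IsIrreducible C) (hne : C ≠ {o}) :
    ∃ x ∈ C, x ≠ o := by
  by_contra hcon
  push Not at hcon
  obtain ⟨x, hx⟩ := hC.1
  exact hne (Set.Subset.antisymm hcon (Set.singleton_subset_iff.2 (hcon x hx ▸ hx)))

theorem IsLocalPt.isIrreducible_preimage (ho : IsLocalPt o) {C : Set T} (hC : IsIrreducible C)
    (hne : C ≠ {o}) : IsIrreducible (Subtype.val ⁻¹' C : Set ↥({o}ᶜ : Set T)) := by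
  obtain ⟨x, hxC, hxo⟩ := IsLocalPt.nonempty_compl_inter hC hne
  exact ⟨⟨⟨x, hxo⟩, hxC⟩, hC.2.preimage ho.isOpenEmbedding⟩

theorem IsLocalPt.closure_image_preimage (ho : IsLocalPt o) {C : Set T} (hC : IsIrreducible C)
    (hCc : IsClosed C) (hne : C ≠ {o}) :
    closure (Subtype.val '' (Subtype.val ⁻¹' C : Set ↥({o}ᶜ : Set T))) = C := by
  obtain ⟨x, hxC, hxo⟩ := IsLocalPt.nonempty_compl_inter hC hne
  rw [Subtype.image_preimage_coe]
  refine Set.Subset.antisymm (closure_minimal Set.inter_subset_right hCc) ?_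
  rw [Set.inter_comm]
  exact subset_closure_inter_of_isPreirreducible_of_isOpen hC.2 ho.isClosed.isOpen_compl ⟨x, hxC, hxo⟩

theorem IsLocalPt.topologicalKrullDim_eq (ho : IsLocalPt o) (h : Nonempty ↥({o}ᶜ : Set T)) :
    topologicalKrullDim T = topologicalKrullDim ↥({o}ᶜ : Set T) + 1 := by
  let top : IrreducibleCloseds T := ⟨{o}, isIrreducible_singleton, ho.isClosed⟩
  let m := IrreducibleCloseds.map (Subtype.val : ↥({o}ᶜ : Set T) → T) continuous_subtype_val
  let f : WithBot (IrreducibleCloseds ↥({o}ᶜ : Set T)) → IrreducibleCloseds T :=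
    fun a => WithBot.recBotCoe top m a
  have hbot : ∀ C : IrreducibleCloseds T, top ≤ C := fun C =>
    Set.singleton_subset_iff.2 (ho.mem C.isClosed C.isIrreducible.1)
  have hm : ∀ W : IrreducibleCloseds ↥({o}ᶜ : Set T), (m W : Set T) = closure (Subtype.val '' (W : Set ↥({o}ᶜ : Set T))) :=
    fun W => IrreducibleCloseds.coe_map _ _ _
  have hnle : ∀ W, ¬ m W ≤ top := fun W hle => by
    obtain ⟨w, hw⟩ := W.isIrreducible.1
    exact w.2 (hle (show w.1 ∈ (m W : Set T) from (hm W).symm ▸ subset_closure ⟨w, hw, rfl⟩))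
  have hle : ∀ a b, f a ≤ f b ↔ a ≤ b := by
    intro a b
    induction a using WithBot.recBotCoe with
    | bot => exact iff_of_true (hbot _) bot_le
    | coe W =>
      induction b using WithBot.recBotCoe with
      | bot => exact iff_of_false (hnle W) (WithBot.not_coe_le_bot _)
      | coe W' =>
        rw [WithBot.coe_le_coe]
        constructor
        · intro h' x hx
          have h1 : (x : ↥({o}ᶜ : Set T)).1 ∈ (m W' : Set T) :=
            h' (show x.1 ∈ (m W : Set T) from (hm W).symm ▸ subset_closure ⟨x, hx, rfl⟩)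
          exact (ho.preimage_closure_image W'.isClosed).subset ((hm W').subset h1)
        · exact fun h' => closure_mono (Set.image_mono h')
  let e := OrderEmbedding.ofMapLEIff f hle
  have hs : Function.Surjective f := by
    intro C
    by_cases hC : (C : Set T) = {o}
    · exact ⟨⊥, IrreducibleCloseds.ext hC.symm⟩
    · refine ⟨((⟨_, ho.isIrreducible_preimage C.isIrreducible hC,
        C.isClosed.preimage continuous_subtype_val⟩ : IrreducibleCloseds _) : WithBot _),
        IrreducibleCloseds.ext ?_⟩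
      exact (hm _).trans (ho.closure_image_preimage C.isIrreducible C.isClosed hC)
  haveI : Nonempty (IrreducibleCloseds ↥({o}ᶜ : Set T)) :=
    ⟨⟨closure {h.some}, isIrreducible_singleton.closure, isClosed_closure⟩⟩
  unfold topologicalKrullDim
  rw [← Order.krullDim_withBot]
  exact (Order.krullDim_eq_of_orderIso (RelIso.ofSurjective e hs)).symm

/-- The closed set `Z' ∪ {o}`. -/
theorem IsLocalPt.isClosed_union (ho : IsLocalPt o) {Z : Set ↥({o}ᶜ : Set T)} (hZ : IsClosed Z) :
    IsClosed (Subtype.val '' Z ∪ {o}) := by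
  rw [← isOpen_compl_iff]
  have e : (Subtype.val '' Z ∪ {o})ᶜ = Subtype.val '' Zᶜ := by
    ext x
    constructor
    · intro hx
      exact ⟨⟨x, fun h => hx (Or.inr h)⟩, fun h => hx (Or.inl ⟨_, h, rfl⟩), rfl⟩
    · rintro ⟨y, hy, rfl⟩ (⟨y', hy', e⟩ | h)
      · exact hy (Subtype.val_injective e ▸ hy')
      · exact y.2 h
  rw [e]
  exact ho.isOpenEmbedding.isOpenMap _ hZ.isOpen_compl

theorem IsLocalPt.dim_union (ho : IsLocalPt o) {Z : Set ↥({o}ᶜ : Set T)} (hne : Z.Nonempty) :
    topologicalKrullDim ↥(Subtype.val '' Z ∪ {o}) = topologicalKrullDim ↥Z + 1 := by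
  set S := Subtype.val '' Z ∪ {o}
  let oS : S := ⟨o, Or.inr rfl⟩
  have hoS : IsLocalPt oS := ⟨by
      have : ({oS} : Set S) = Subtype.val ⁻¹' {o} := by ext z; simp [oS, Subtype.ext_iff]
      rw [this]; exact ho.isClosed.preimage continuous_subtype_val,
    fun x => (subtype_specializes_iff _ _).2 (ho.specializes x.1)⟩
  obtain ⟨z, hz⟩ := hne
  rw [hoS.topologicalKrullDim_eq ⟨⟨⟨z.1, Or.inl ⟨z, hz, rfl⟩⟩, fun h => z.2 (congrArg Subtype.val h)⟩⟩]
  congr 1
  let i : ↥Z → ↥({oS}ᶜ : Set S) := fun w => ⟨⟨w.1.1, Or.inl ⟨w.1, w.2, rfl⟩⟩, fun h => w.1.2 (congrArg Subtype.val h)⟩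
  have hi : Function.Bijective i := by
    refine ⟨fun a b h => Subtype.ext (Subtype.ext (congrArg (fun t => t.1.1) h)), fun t => ?_⟩
    rcases t.1.2 with ⟨w, hw, hwe⟩ | h
    · exact ⟨⟨w, hw⟩, Subtype.ext (Subtype.ext hwe)⟩
    · exact absurd (Subtype.ext h : t.1 = oS) t.2
  have hemb : Topology.IsEmbedding i := by
    refine Topology.IsEmbedding.of_comp ?_ (continuous_subtype_val.comp continuous_subtype_val) ?_
    · exact ((continuous_subtype_val.comp continuous_subtype_val).subtype_mk _).subtype_mk _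
    · exact (Topology.IsEmbedding.subtypeVal.comp Topology.IsEmbedding.subtypeVal :
        Topology.IsEmbedding fun w : ↥Z => w.1.1)
  exact (IsHomeomorph.topologicalKrullDim_eq i
    ((hemb.toHomeomorphOfSurjective hi.2).isHomeomorph)).symm

theorem cases_withBotENat {P : WithBot ℕ∞ → Prop} (hb : P ⊥) (ht : P ⊤) (hn : ∀ n : ℕ, P (n : WithBot ℕ∞))
    (a : WithBot ℕ∞) : P a := by
  induction a using WithBot.recBotCoe with
  | bot => exact hb
  | coe a =>
    induction a using ENat.recTopCoe with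
    | top => exact ht
    | coe n => exact hn n

theorem add_one_le_add_one_iff {a : WithBot ℕ∞} {k : ℕ} :
    (k : WithBot ℕ∞) + 1 ≤ a + 1 ↔ (k : WithBot ℕ∞) ≤ a := by
  induction a using cases_withBotENat with
  | hb => exact iff_of_false (by rw [WithBot.bot_add]; exact WithBot.not_coe_le_bot _) (WithBot.not_coe_le_bot _)
  | ht => exact iff_of_true (le_top.trans (le_of_eq (show (⊤ : WithBot ℕ∞) = ⊤ + 1 from rfl))) le_top
  | hn n => norm_cast; omega

theorem add_one_le_natCast_iff {a : WithBot ℕ∞} {k : ℕ} :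
    a + 1 ≤ (k : WithBot ℕ∞) ↔ a < (k : WithBot ℕ∞) := by
  induction a using cases_withBotENat with
  | hb => exact iff_of_true (by rw [WithBot.bot_add]; exact bot_le) (WithBot.bot_lt_coe _)
  | ht =>
    refine iff_of_false (fun h => ?_) not_top_lt
    have : (⊤ : ℕ∞) ≤ (k : ℕ∞) := WithBot.coe_le_coe.1 h
    exact ENat.natCast_ne_top k (top_le_iff.1 this)
  | hn n => norm_cast

theorem IsLocalPt.dim_union_le_iff (ho : IsLocalPt o) {Z : Set ↥({o}ᶜ : Set T)} {k : ℕ} :
    topologicalKrullDim ↥(Subtype.val '' Z ∪ {o}) ≤ (k : WithBot ℕ∞) ↔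
      topologicalKrullDim ↥Z < (k : WithBot ℕ∞) := by
  rcases Z.eq_empty_or_nonempty with rfl | hne
  · rw [Set.image_empty, Set.empty_union]
    refine iff_of_true (le_trans (topologicalKrullDim_zero_of_discreteTopology ↥({o} : Set T)) (by
      exact_mod_cast Nat.zero_le k)) ?_
    haveI : IsEmpty ↥(∅ : Set ↥({o}ᶜ : Set T)) := ⟨fun x => x.2⟩
    haveI : IsEmpty (IrreducibleCloseds ↥(∅ : Set ↥({o}ᶜ : Set T))) := ⟨fun C => IsEmpty.false C.isIrreducible.1.some⟩
    rw [show topologicalKrullDim ↥(∅ : Set ↥({o}ᶜ : Set T)) = ⊥ from Order.krullDim_eq_bot]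
    exact WithBot.bot_lt_coe _
  · rw [ho.dim_union hne, add_one_le_natCast_iff]

theorem IsLocalPt.isConnected_compl_iff {Z : Set ↥({o}ᶜ : Set T)} :
    IsConnected (Subtype.val '' Z ∪ {o})ᶜ ↔ IsConnected Zᶜ := by
  have e : (Subtype.val '' Z ∪ {o})ᶜ = Subtype.val '' Zᶜ := by
    ext x
    constructor
    · intro hx
      exact ⟨⟨x, fun h => hx (Or.inr h)⟩, fun h => hx (Or.inl ⟨_, h, rfl⟩), rfl⟩
    · rintro ⟨y, hy, rfl⟩ (⟨y', hy', e⟩ | h)
      · exact hy (Subtype.val_injective e ▸ hy')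
      · exact y.2 h
  rw [e, IsConnected, IsConnected, Topology.IsInducing.subtypeVal.isPreconnected_image, Set.image_nonempty]

theorem IsLocalPt.connectedInDim (ho : IsLocalPt o) {k : ℕ}
    (h : ((k + 1 : ℕ) : WithBot ℕ∞) ≤ LocCoh.connDim T) :
    LefX.ConnectedInDim ↥({o}ᶜ : Set T) k := by
  intro Z hZ hdim
  rw [← IsLocalPt.isConnected_compl_iff]
  by_contra hcon
  have h1 := h.trans (iInf₂_le (Subtype.val '' Z ∪ {o}) (And.intro (ho.isClosed_union hZ) hcon) :
    LocCoh.connDim T ≤ _)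
  exact absurd (h1.trans (ho.dim_union_le_iff.2 hdim)) (by exact_mod_cast Nat.not_succ_le_self k)

theorem IsLocalPt.le_connDim (ho : IsLocalPt o) {k : ℕ}
    (h : LefX.ConnectedInDim ↥({o}ᶜ : Set T) k) : ((k + 1 : ℕ) : WithBot ℕ∞) ≤ LocCoh.connDim T := by
  refine le_iInf₂ fun Z hZ => ?_
  by_contra hcon
  have hlt : topologicalKrullDim ↥Z ≤ (k : WithBot ℕ∞) := by
    rw [not_le, ← add_one_le_natCast_iff] at hcon
    revert hcon
    generalize topologicalKrullDim ↥Z = a
    intro hcon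
    induction a using cases_withBotENat with
    | hb => exact bot_le
    | ht =>
      have : (⊤ : ℕ∞) ≤ ((k + 1 : ℕ) : ℕ∞) := WithBot.coe_le_coe.1 hcon
      exact absurd (top_le_iff.1 this) (ENat.natCast_ne_top _)
    | hn n => norm_cast at hcon ⊢; omega
  rcases Z.eq_empty_or_nonempty with rfl | hne
  · refine hZ.2 (Set.compl_empty ▸ ⟨⟨o, trivial⟩, ?_⟩)
    refine isPreconnected_closed_iff.2 fun A B hA hB _ hAne hBne => ?_
    exact ⟨o, trivial, ho.mem hA ⟨hAne.some, hAne.some_mem.2⟩, ho.mem hB ⟨hBne.some, hBne.some_mem.2⟩⟩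
  have hoZ := ho.mem hZ.1 hne
  have e : Subtype.val '' (Subtype.val ⁻¹' Z : Set ↥({o}ᶜ : Set T)) ∪ {o} = Z := by
    rw [Subtype.image_preimage_coe]
    ext x
    by_cases hx : x = o
    · simp [hx, hoZ]
    · simp [hx]
  refine hZ.2 ?_
  rw [← e, IsLocalPt.isConnected_compl_iff]
  exact h _ (hZ.1.preimage continuous_subtype_val) (ho.dim_union_le_iff.1 (e.symm ▸ hlt))

theorem IsLocalPt.ne_singleton (ho : IsLocalPt o) (h : Nonempty ↥({o}ᶜ : Set T)) {C : Set T}
    (hC : C ∈ irreducibleComponents T) : C ≠ {o} := by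
  rintro rfl
  obtain ⟨x, hx⟩ := h
  exact hx (hC.2 ((isIrreducible_singleton : IsIrreducible ({x} : Set T)).closure)
    (Set.singleton_subset_iff.2 (ho.mem isClosed_closure ⟨x, subset_closure rfl⟩)) (subset_closure rfl))

omit [TopologicalSpace T] in
theorem IsLocalPt.union_preimage {C : Set T} (hoC : o ∈ C) :
    Subtype.val '' (Subtype.val ⁻¹' C : Set ↥({o}ᶜ : Set T)) ∪ {o} = C := by
  rw [Subtype.image_preimage_coe]
  ext x
  by_cases hx : x = o
  · simp [hx, hoC]
  · simp [hx]

theorem IsLocalPt.le_subdim (ho : IsLocalPt o) (h : Nonempty ↥({o}ᶜ : Set T)) {k : ℕ}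
    (hk : ∀ W ∈ irreducibleComponents ↥({o}ᶜ : Set T), ((k : ℕ) : WithBot ℕ∞) ≤ topologicalKrullDim ↥W) :
    ((k + 1 : ℕ) : WithBot ℕ∞) ≤ LocCoh.subdim T := by
  refine le_iInf₂ fun C hC => ?_
  have hne := ho.ne_singleton h hC
  have hCc := isClosed_of_mem_irreducibleComponents C hC
  have hW : (Subtype.val ⁻¹' C : Set ↥({o}ᶜ : Set T)) ∈ irreducibleComponents ↥({o}ᶜ : Set T) := by
    refine ⟨ho.isIrreducible_preimage hC.1 hne, fun W' hW' hle x hx => ?_⟩
    have h1 : C ⊆ closure (Subtype.val '' W') :=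
      (ho.closure_image_preimage hC.1 hCc hne).symm.subset.trans (closure_mono (Set.image_mono hle))
    exact hC.2 (hW'.image _ continuous_subtype_val.continuousOn).closure h1 (subset_closure ⟨x, hx, rfl⟩)
  have hoC := ho.mem hCc hC.1.1
  obtain ⟨x, hxC, hxo⟩ := IsLocalPt.nonempty_compl_inter hC.1 hne
  rw [← IsLocalPt.union_preimage hoC, ho.dim_union ⟨⟨x, hxo⟩, hxC⟩, Nat.cast_add, Nat.cast_one]
  exact add_le_add_left (hk _ hW) 1

theorem IsLocalPt.le_dim_component (ho : IsLocalPt o) {k : ℕ}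
    (hk : ((k + 1 : ℕ) : WithBot ℕ∞) ≤ LocCoh.subdim T) {W : Set ↥({o}ᶜ : Set T)}
    (hW : W ∈ irreducibleComponents ↥({o}ᶜ : Set T)) : ((k : ℕ) : WithBot ℕ∞) ≤ topologicalKrullDim ↥W := by
  have hWc := isClosed_of_mem_irreducibleComponents W hW
  set C := closure (Subtype.val '' W)
  have hC : C ∈ irreducibleComponents T := by
    refine ⟨(hW.1.image _ continuous_subtype_val.continuousOn).closure, fun C' hC' hle => ?_⟩
    obtain ⟨w, hw⟩ := hW.1.1
    have hwC' : w.1 ∈ closure C' := subset_closure (hle (subset_closure ⟨w, hw, rfl⟩))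
    have hne : closure C' ≠ {o} := fun e => w.2 (Set.mem_singleton_iff.2 (e.subset hwC'))
    have h2 : (Subtype.val ⁻¹' closure C' : Set ↥({o}ᶜ : Set T)) ⊆ W :=
      hW.2 (ho.isIrreducible_preimage hC'.closure hne)
        (fun x hx => subset_closure (hle (subset_closure ⟨x, hx, rfl⟩)))
    exact subset_closure.trans ((ho.closure_image_preimage hC'.closure isClosed_closure hne).symm.subset.trans
      (closure_mono (Set.image_mono h2)))
  have h3 := hk.trans (iInf₂_le C hC)
  rw [← IsLocalPt.union_preimage (ho.mem isClosed_closure hC.1.1) (C := C), ho.preimage_closure_image hWc,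
    ho.dim_union hW.1.1, Nat.cast_add, Nat.cast_one, add_one_le_add_one_iff] at h3
  exact h3

end Groth.LefConn
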